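/-
Modifying a generic isomorphism of coherent modules on a curve at chosen points; locally free modules
inside and around a torsion-free module.
-/
import Groth.Agent.DetDeg.Main
import Groth.Agent.LinSerMap.Main
import Groth.Agent.RatFun.Basic
import Groth.Agent.Devissage.Support
import Groth.Agent.W7Slope.Twist
import Groth.Agent.CurveVA.Criterion
import Groth.Agent.CurveDiv.Basic
import Groth.Agent.CurveRR.Point
import Groth.Agent.CurveRR.GlobGen
import Groth.Agent.TMul.Power

set_option autoImplicit false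
set_option linter.style.haveILetI false
set_option linter.unusedSectionVars false
set_option backward.isDefEq.respectTransparency false
set_option backward.isDefEq.respectTransparency.types false

universe u

open CategoryTheory CategoryTheory.Limits AlgebraicGeometry TopologicalSpace Opposite
open Groth.Agent.CurveRR
open Groth.Agent.WeakAssLib (mgerm mgerm_res stalkHom stalkHom_germ stalkHom_smul)
open Groth.Agent.QC (res res_res res_self app_res)
open TMul (homOf val_homOf tm)
open Groth.Agent.CohFinite (tmap tmap_tm)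

noncomputable section

namespace Groth.Agent.TFModify

variable {k : Type u} [Field k] {X : Scheme.{u}} [X.Over (Spec (CommRingCat.of k))]
  [IsProper (X ↘ Spec (CommRingCat.of k))] [IsIntegral X]

/-- A map out of a torsion-free module is mono once it is so at the generic point. -/
theorem mono_of_generic {F G : X.Modules} [Coh.IsQCoh F] (hF : TorSh.IsTorsionFree F) (f : F ⟶ G)
    (h : Function.Injective (stalkHom f (genericPoint X))) : Mono f := by
  refine (Groth.Agent.QC.mono_iff_app_injective f).2 fun V => (injective_iff_map_eq_zero (f.app V).hom).2 fun a ha => ?_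
  by_cases hV : genericPoint X ∈ V
  · refine RatFun.germ_generic_injective F hF hV (h ?_)
    rw [stalkHom_germ, show f.app V a = 0 from ha, map_zero, map_zero]
  · exact Groth.Agent.QC.section_eq_of_locally fun y hy => absurd ((genericPoint_specializes y).mem_open V.2 hy) hV

theorem injective_stalkHom {F G : X.Modules} (f : F ⟶ G) [Mono f] (x : X) : Function.Injective (stalkHom f x) :=
  (ModuleCat.mono_iff_injective ((DerSch.stalkFunctor X x).map f)).1 inferInstance

theorem surjective_stalkHom {F G : X.Modules} (f : F ⟶ G) [Epi f] (x : X) : Function.Surjective (stalkHom f x) :=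
  (ModuleCat.epi_iff_surjective ((DerSch.stalkFunctor X x).map f)).1 inferInstance

/-- The stalk of a cokernel vanishes where the map is onto. -/
theorem subsingleton_coker {F G : X.Modules} (f : F ⟶ G) {x : X} (h : Function.Surjective (stalkHom f x)) :
    Subsingleton ((cokernel f).presheaf.stalk x) := by
  refine subsingleton_of_forall_eq 0 fun v => ?_
  obtain ⟨w, rfl⟩ := surjective_stalkHom (cokernel.π f) x v
  obtain ⟨y, rfl⟩ := h w
  obtain ⟨W, hxW, a, rfl⟩ := F.presheaf.exists_germ_eq (x := x) y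
  rw [stalkHom_germ, stalkHom_germ]
  refine (congrArg (mgerm _ hxW) ?_).trans (map_zero _)
  exact congrArg (fun φ => (φ.app W) a) (cokernel.condition f)

/-- Germs of sections killed on `U` lie in the kernel of the map to the sections on `U`. -/
theorem mem_range_kernel_unitE {Q C : X.Modules} (π : Q ⟶ C) (U : X.Opens) (x : X) (W : X.Opens) (hxW : x ∈ W)
    (s : Γ(Q, W)) (h : ∀ (y : X) (hy : y ∈ W), y ∈ U → mgerm C hy (π.app W s) = 0) :
    mgerm Q hxW s ∈ Set.range (stalkHom (kernel.ι (π ≫ Devissage.unitE U C)) x) := by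
  have h0 : (Devissage.unitE U C).app W (π.app W s) = 0 := (Devissage.unitE_eq_zero_iff U C _).2 h
  have h1 : (π ≫ Devissage.unitE U C).app W s = 0 := by
    rw [← h0]; rfl
  obtain ⟨e, he⟩ := (Groth.Agent.QC.mem_range_kernel_app (π ≫ Devissage.unitE U C) W s).2 h1
  refine ⟨mgerm _ hxW e, ?_⟩
  rw [stalkHom_germ]
  exact congrArg (mgerm Q hxW) he

/-- On `U`, the kernel of the map to the sections on `U` is killed by the map. -/
theorem kernel_unitE_germ {Q C : X.Modules} (π : Q ⟶ C) (U : X.Opens) (x : X) (hxU : x ∈ U) (W : X.Opens)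
    (hxW : x ∈ W) (e : Γ(kernel (π ≫ Devissage.unitE U C), W)) :
    stalkHom π x (stalkHom (kernel.ι (π ≫ Devissage.unitE U C)) x (mgerm _ hxW e)) = 0 := by
  rw [stalkHom_germ, stalkHom_germ]
  refine (Devissage.unitE_eq_zero_iff U C _).1 ?_ x hxW hxU
  exact congrArg (fun φ => (φ.app W) e) (kernel.condition (π ≫ Devissage.unitE U C))

include k in
/-- A generic isomorphism modified so as to become an isomorphism at chosen points. -/
theorem exists_modify (hdim : topologicalKrullDim X = 1) {P Q : X.Modules} (hP : Coh.IsCoh P) (hQ : Coh.IsCoh Q)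
    (φ : P ⟶ Q) [Mono φ] (hgen : Subsingleton ((cokernel φ).presheaf.stalk (genericPoint X))) (T : Set X) :
    ∃ (E : X.Modules) (i : E ⟶ Q) (a : P ⟶ E), Mono i ∧ Coh.IsCoh E ∧ a ≫ i = φ ∧
      ∀ x : X, (x ∈ T → Function.Bijective (stalkHom i x)) ∧ (x ∉ T → Function.Bijective (stalkHom a x)) ∧
        (Subsingleton ((cokernel φ).presheaf.stalk x) →
          Function.Bijective (stalkHom i x) ∧ Function.Bijective (stalkHom a x)) := by
  haveI := isNoetherian_of_proper k X
  let C := cokernel φ
  let π : Q ⟶ C := cokernel.π φ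
  have hC : Coh.IsCoh C := Groth.Agent.QC.isCoh_cokernel hP.1 hQ φ
  let S : Set X := CohB1.support C
  have hScl : IsClosed S := Groth.Agent.QC.isClosed_support hC.2
  have hηS : genericPoint X ∉ S := W7Slope.notMem_support_of_subsingleton hgen
  have hclosed : ∀ z ∈ S, IsClosed ({z} : Set X) := fun z hz =>
    CurveVA.isClosed_singleton_of_ne_generic (k := k) hdim fun h => hηS (h ▸ hz)
  have hSfin : S.Finite := by
    have := CurveDiv.finite_of_forall_isClosed (⊤ : X.Opens) ⟨Sᶜ, hScl.isOpen_compl⟩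
      fun z _ hz => hclosed z (not_not.1 hz)
    exact this.subset fun z hz => ⟨trivial, fun h => h hz⟩
  have hsub : ∀ A ⊆ S, IsClosed A := fun A hA => by
    rw [← Set.biUnion_of_singleton A]
    exact (hSfin.subset hA).isClosed_biUnion fun z hz => hclosed z (hA hz)
  let U : X.Opens := ⟨(S ∩ T)ᶜ, (hsub _ Set.inter_subset_left).isOpen_compl⟩
  let u := π ≫ Devissage.unitE U C
  have hpush : Coh.IsQCoh ((Scheme.Modules.pushforward U.ι).obj (C.restrict U.ι)) := Devissage.isQCoh_pushE hC.1 U
  have hE : Coh.IsCoh (kernel u) := Groth.Agent.QC.isCoh_kernel hQ hpush u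
  let a : P ⟶ kernel u := kernel.lift u φ (by rw [← Category.assoc, cokernel.condition, zero_comp])
  have hai : a ≫ kernel.ι u = φ := kernel.lift_ι _ _ _
  refine ⟨kernel u, kernel.ι u, a, inferInstance, hE, hai, fun x => ?_⟩
  have hinj := injective_stalkHom (kernel.ι u) x
  have hainj : Function.Injective (stalkHom a x) := by
    haveI : Mono a := mono_of_mono_fac hai
    exact injective_stalkHom a x
  -- germs in the kernel
  have hmem : ∀ (W : X.Opens) (hxW : x ∈ W) (s : Γ(Q, W)),
      (∀ (y : X) (hy : y ∈ W), y ∈ U → mgerm C hy (π.app W s) = 0) →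
        mgerm Q hxW s ∈ Set.range (stalkHom (kernel.ι u) x) := fun W hxW s h =>
    mem_range_kernel_unitE π U x W hxW s h
  have hT : x ∈ T → Function.Bijective (stalkHom (kernel.ι u) x) := fun hxT => by
    refine ⟨hinj, fun v => ?_⟩
    obtain ⟨W, hxW, s, rfl⟩ := Q.presheaf.exists_germ_eq (x := x) v
    let W' : X.Opens := W ⊓ ⟨(S \ {x})ᶜ, (hsub _ Set.diff_subset).isOpen_compl⟩
    have hxW' : x ∈ W' := ⟨hxW, fun h => h.2 rfl⟩
    suffices h : mgerm Q hxW' (res Q inf_le_left s) ∈ Set.range (stalkHom (kernel.ι u) x) by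
      obtain ⟨b, hb⟩ := h
      exact ⟨b, hb.trans (mgerm_res Q inf_le_left hxW' s)⟩
    refine hmem W' hxW' _ fun y hy hyU => ?_
    have : y ∉ S := fun hyS => by
      by_cases hyx : y = x
      · exact hyU ⟨hyS, hyx ▸ hxT⟩
      · exact hy.2 ⟨hyS, hyx⟩
    haveI : Subsingleton (C.presheaf.stalk y) := not_not.1 this
    exact Subsingleton.elim _ _
  have hU : x ∈ U → Function.Bijective (stalkHom a x) := fun hxU => by
    refine ⟨hainj, fun e => ?_⟩
    obtain ⟨W, hxW, e, rfl⟩ := (kernel u).presheaf.exists_germ_eq (x := x) e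
    have hz : stalkHom π x (stalkHom (kernel.ι u) x (mgerm _ hxW e)) = 0 := kernel_unitE_germ π U x hxU W hxW e
    obtain ⟨p, hp⟩ : stalkHom (kernel.ι u) x (mgerm _ hxW e) ∈ Set.range (stalkHom φ x) := by
      have hex := ((ShortComplex.exact_cokernel φ).map (DerSch.stalkFunctor X x))
      rw [ShortComplex.moduleCat_exact_iff] at hex
      exact hex _ hz
    refine ⟨p, hinj ?_⟩
    refine Eq.trans ?_ hp
    obtain ⟨V, hxV, q, rfl⟩ := P.presheaf.exists_germ_eq (x := x) p
    rw [stalkHom_germ, stalkHom_germ, stalkHom_germ, ← hai]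
    rfl
  refine ⟨hT, fun hxT => hU fun h => hxT h.2, fun hx => ⟨?_, hU fun h => h.1 hx⟩⟩
  refine ⟨hinj, fun v => ?_⟩
  obtain ⟨w, hw⟩ : v ∈ Set.range (stalkHom φ x) := by
    have hex := ((ShortComplex.exact_cokernel φ).map (DerSch.stalkFunctor X x))
    rw [ShortComplex.moduleCat_exact_iff] at hex
    exact hex v (Subsingleton.elim (α := C.presheaf.stalk x) _ _)
  refine ⟨stalkHom a x w, ?_⟩
  rw [← hw]
  obtain ⟨V, hxV, q, rfl⟩ := P.presheaf.exists_germ_eq (x := x) w
  rw [stalkHom_germ, stalkHom_germ, stalkHom_germ, ← hai]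
  rfl

/-- The multiplication by a section, as a map to the twist. -/
def mulHom {L : X.Modules} (ψ : Coh.structureModule X ⟶ L) (M : X.Modules) : M ⟶ CohB1.tensorMod M L :=
  (TMul.leftUnitIso M).inv ≫ tmap ψ M ≫ (TMul.commIso L M).hom

omit [X.Over (Spec (CommRingCat.of k))] [IsProper (X ↘ Spec (CommRingCat.of k))] [IsIntegral X] in
theorem mulHom_app {L : X.Modules} (ψ : Coh.structureModule X ⟶ L) (M : X.Modules) (U : X.Opens) (m : Γ(M, U)) :
    (mulHom ψ M).app U m = tm m (TMul.val ψ U) := by
  have h1 : (TMul.leftUnitIso M).inv.app U m = tm (M := Coh.structureModule X) (1 : Γ(X, U)) m := by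
    apply (ConcreteCategory.bijective_of_isIso ((TMul.leftUnitIso M).hom.app U)).1
    rw [CurveRR.leftUnitIso_tm, one_smul]
    exact congrArg (fun φ => (φ.app U) m) (TMul.leftUnitIso M).inv_hom_id
  show (TMul.commHom L M).app U ((tmap ψ M).app U ((TMul.leftUnitIso M).inv.app U m)) = _
  rw [h1, tmap_tm, TMul.commHom_tm]
  rfl

omit [X.Over (Spec (CommRingCat.of k))] [IsProper (X ↘ Spec (CommRingCat.of k))] [IsIntegral X] in
theorem mulHom_natural {L : X.Modules} (ψ : Coh.structureModule X ⟶ L) {M N : X.Modules} (f : M ⟶ N) :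
    f ≫ mulHom ψ N = mulHom ψ M ≫ tmap f L := by
  refine Scheme.Modules.hom_ext _ _ fun U => ?_
  ext m
  show (mulHom ψ N).app U (f.app U m) = (tmap f L).app U ((mulHom ψ M).app U m)
  rw [mulHom_app, mulHom_app, tmap_tm]

theorem mono_mulHom_free {L : X.Modules} (hL : PicF.IsInvertible L) (ψ : Coh.structureModule X ⟶ L) [Mono ψ] (n : ℕ) :
    Mono (mulHom ψ (FlatMod.freeMod X n)) := by
  haveI : Mono (mulHom ψ (Coh.structureModule X)) := by
    haveI : Mono (tmap ψ (Coh.structureModule X)) := W7Slope.mono_tmap TMul.isInvertible_structureModule ψ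
    unfold mulHom
    infer_instance
  let e := biproduct.isoCoproduct fun _ : Fin n => Coh.structureModule X
  refine Preadditive.mono_of_cancel_zero _ fun {Z} g hg => ?_
  rw [← cancel_mono e.inv, zero_comp]
  refine biproduct.hom_ext _ _ fun i => ?_
  rw [zero_comp, Category.assoc, ← cancel_mono (mulHom ψ (Coh.structureModule X)), zero_comp, Category.assoc,
    mulHom_natural ψ (e.inv ≫ biproduct.π _ i), ← Category.assoc]
  refine (congrArg (· ≫ _) hg).trans zero_comp

/-- A nonzero section of a power of a positive invertible module vanishing on a finite set of closed points. -/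
theorem exists_vanishing_section (hdim : topologicalKrullDim X = 1) {H : X.Modules} (hH : PicF.IsInvertible H)
    (hdeg : 0 < Curv2.deg k X H 1) {S : Set X} (hS : IsClosed S) (hηS : genericPoint X ∉ S) :
    ∃ (N : ℕ) (s : Coh.structureModule X ⟶ CohB1.tensorPow H N), Mono s ∧
      ∀ x ∈ S, x ∉ CohB1.genLocus (CohB1.tensorPow H N) s := by
  haveI := isNoetherian_of_proper k X
  let I := Scheme.IdealSheafData.vanishingIdeal ⟨S, hS⟩
  have hsupp : (I.support : Set X) = S := by simp [I, hS.closure_eq]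
  let N := (-(Curv2.euler k X (Coh.structureModule X)) + h k (ClSub.quotMod I) 0).toNat + 1
  let B := CohB1.tensorPow H N
  have hB : PicF.IsInvertible B := TMul.isInvertible_tensorPow hH N
  have hdimS : topologicalKrullDim (I.support : Set X) ≤ 0 := by
    rw [hsupp]; exact dim_le_zero_of_closed hdim.le hS hηS
  have hne : h k (CohB1.tensorMod (ClSub.idealMod I) B) 0 ≠ 0 := by
    have he := euler_ideal_tensor (k := k) hB I hdimS
    have hdB := deg_tensorPow (k := k) hdim.le hH N
    have hNd : (N : ℤ) ≤ (N : ℤ) * Curv2.deg k X H 1 := by nlinarith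
    have h2 := euler_eq (k := k) (F := CohB1.tensorMod (ClSub.idealMod I) B) hdim.le
    rw [Curv2.deg] at hdB
    have hN : N = (-(Curv2.euler k X (Coh.structureModule X)) + h k (ClSub.quotMod I) 0).toNat + 1 := rfl
    change Curv2.euler k X B - _ = _ at hdB
    intro h0
    omega
  obtain ⟨t, ht⟩ : ∃ t : Γ(CohB1.tensorMod (ClSub.idealMod I) B, ⊤), t ≠ 0 := by
    by_contra! hall
    haveI : Subsingleton Γ(CohB1.tensorMod (ClSub.idealMod I) B, ⊤) := subsingleton_of_forall_eq 0 hall
    letI := secMod k (CohB1.tensorMod (ClSub.idealMod I) B) ⊤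
    exact hne ((finrank_sec (k := k) _).symm.trans Module.finrank_zero_of_subsingleton)
  haveI : Mono (ClSub.idealModι I) := inferInstance
  haveI : Mono (idealIncl I B) := by
    haveI : Mono (tmap (ClSub.idealModι I) B) := W7Slope.mono_tmap hB _
    show Mono (tmap (ClSub.idealModι I) B ≫ (TMul.leftUnitIso B).hom)
    infer_instance
  have ht' : (idealIncl I B).app ⊤ t ≠ 0 := fun h0 =>
    ht ((Groth.Agent.QC.mono_iff_app_injective _).1 inferInstance ⊤ (h0.trans (map_zero _).symm))
  refine ⟨N, homOf ((idealIncl I B).app ⊤ t), mono_of_ne_zero TMul.isInvertible_structureModule hB _ fun h0 => ht' ?_,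
    fun x hx => notMem_genLocus_idealIncl hB I t (by rw [hsupp]; exact hx)⟩
  have h1 := congrArg (fun φ => TMul.val φ ⊤) h0
  simp only [val_homOf, res_self] at h1
  exact h1.trans (by rfl)

/-- Sections supported off the locus of a section are killed by a common power of it. -/
theorem exists_twist_eq_zero_all {F L : X.Modules} [F.IsQuasicoherent] [CompactSpace X] (hL : PicF.IsInvertible L)
    (s : Coh.structureModule X ⟶ L) {ι : Type*} [Fintype ι] (t : ι → Γ(F, ⊤))
    (ht : ∀ i, res F (le_top : CohB1.genLocus L s ≤ ⊤) (t i) = 0) :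
    ∃ n : ℕ, 0 < n ∧ ∀ i, TMul.tw s n F ⊤ (t i) = 0 := by
  obtain ⟨κ, hκ, U, e, c, hU, hcov, he, hc⟩ := TMul.exists_charts hL s
  have hn : ∀ (j : ι) (i : κ), ∃ n : ℕ, c i ^ n • res F (le_top : U i ≤ ⊤) (t j) = 0 := fun j i => by
    refine (Groth.Agent.QC.isLoc_of_isQCoh (hU i) (M := F)).exists_pow_smul_eq_zero _ _ ?_
    rw [res_res, ← res_res F ((TMul.genLocus_inf s (he i) (hc i)).ge.trans inf_le_right) le_top, ht, map_zero]
  choose n hn using hn
  let m := Finset.univ.sup fun j => Finset.univ.sup (n j)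
  refine ⟨m + 1, Nat.succ_pos _, fun j => Groth.Agent.QC.section_eq_of_locally fun x _ => ?_⟩
  obtain ⟨i, hi⟩ := hcov x
  refine ⟨U i, le_top, hi, ?_⟩
  rw [TMul.res_twist, map_zero, TMul.twist_eq_tm s (hc i)]
  obtain ⟨l, hl⟩ := Nat.exists_eq_add_of_le (show n j i ≤ m + 1 from
    ((Finset.le_sup (f := n j) (Finset.mem_univ i)).trans
      (Finset.le_sup (f := fun j => Finset.univ.sup (n j)) (Finset.mem_univ j))).trans (Nat.le_succ _))
  rw [hl, pow_add, mul_comm, mul_smul, hn j i, smul_zero, TMul.zero_tm]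

include k in
/-- A torsion-free coherent module on a curve lies between two locally free modules of the same rank. -/
theorem exists_monos (hdim : topologicalKrullDim X = 1) {F : X.Modules} (hF : Coh.IsCoh F)
    (hFt : TorSh.IsTorsionFree F) :
    ∃ (P P' : X.Modules) (φ : P ⟶ F) (ψ : F ⟶ P'), Mono φ ∧ Mono ψ ∧
      FlatMod.IsFinLocFreeOfRank (W7Slope.grk F) P ∧ FlatMod.IsFinLocFreeOfRank (W7Slope.grk F) P' := by
  haveI := isNoetherian_of_proper k X
  haveI : X.IsSeparated := (Scheme.isSeparated_iff X).mpr (by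
    rw [show terminal.from X = (X ↘ Spec (CommRingCat.of k)) ≫ terminal.from _ from terminal.hom_ext _ _]
    infer_instance)
  obtain ⟨A, hA⟩ := Groth.Agent.S1551.result X hdim
  haveI : F.IsQuasicoherent := hF.1
  obtain ⟨m, hm⟩ := TMul.eventually_isGloballyGenerated hA hF.2
  let B := CohB1.tensorPow A m
  have hB : PicF.IsInvertible B := TMul.isInvertible_tensorPow hA.1 m
  obtain ⟨B', hB', ⟨η⟩⟩ := W7Hull.exists_tensor_inverse hB
  let G := CohB1.tensorMod F B
  have hG : Coh.IsCoh G := CohFinite.isCoh_tensor hF hB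
  haveI : G.IsQuasicoherent := hG.1
  let ξ := genericPoint X
  letI : Field (X.presheaf.stalk ξ) := inferInstanceAs (Field X.functionField)
  haveI := RegDual.finite_stalk hG ξ
  -- generic sections
  obtain ⟨l, t, ht⟩ := exists_finite_sections hG (hm m le_rfl)
  have hep : Epi (DetDeg.fromFree t) := by
    have e : biproduct.desc (f := fun _ : Fin l => Coh.structureModule X) (fun i => homOf (t i)) =
        (biproduct.isoCoproduct fun _ : Fin l => Coh.structureModule X).hom ≫ DetDeg.fromFree t := by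
      refine biproduct.hom_ext' _ _ fun i => ?_
      simp [DetDeg.fromFree, FlatMod.freeMod]
    exact epi_of_epi_fac e.symm
  let tξ : Fin l → G.presheaf.stalk ξ := fun i => mgerm G (Opens.mem_top ξ) (t i)
  have hspan : Submodule.span (X.presheaf.stalk ξ) (Set.range tξ) = ⊤ := by
    refine eq_top_iff.mpr fun v _ => ?_
    obtain ⟨w, rfl⟩ := surjective_stalkHom (DetDeg.fromFree t) ξ v
    obtain ⟨c, rfl⟩ := (PBundle.isFrame_bv X l ξ (Opens.mem_top ξ)).2 w
    rw [DetDeg.fromFree_stalk]
    exact Submodule.sum_mem _ fun i _ => Submodule.smul_mem _ _ (Submodule.subset_span ⟨i, rfl⟩)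
  obtain ⟨b, hb, hbspan, hbli⟩ := exists_linearIndependent (X.presheaf.stalk ξ) (Set.range tξ)
  let Bs := Module.Basis.mk hbli (by rw [Subtype.range_coe, hbspan, hspan])
  haveI : Fintype b := ((Set.finite_range tξ).subset hb).fintype
  let n := Fintype.card b
  have hGn : W7Slope.grk G = n := Module.finrank_eq_card_basis Bs
  let e := (Fintype.equivFin b).symm
  choose idx hidx using fun i : Fin n => hb (e i).2
  let s : Fin n → Γ(G, ⊤) := fun i => t (idx i)
  let P₀ := FlatMod.freeMod X n
  have hP₀ : FlatMod.IsFinLocFreeOfRank n P₀ := LinSerMap.isFinLocFreeOfRank_freeMod X n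
  let φ₀ : P₀ ⟶ G := DetDeg.fromFree s
  have hφinj : Function.Injective (stalkHom φ₀ ξ) := by
    refine (injective_iff_map_eq_zero _).2 fun w hw => ?_
    obtain ⟨c, rfl⟩ := (PBundle.isFrame_bv X n ξ (Opens.mem_top ξ)).2 w
    rw [DetDeg.fromFree_stalk] at hw
    have hli : LinearIndependent (X.presheaf.stalk ξ) fun i : Fin n => ((e i : b) : G.presheaf.stalk ξ) :=
      hbli.comp e e.injective
    have hc := Fintype.linearIndependent_iff.1 hli c (by simpa only [← hidx] using hw)
    simp [hc]
  haveI : Coh.IsQCoh P₀ := (isCoh_of_rank hP₀).1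
  have htf : TorSh.IsTorsionFree P₀ := fun x => by
    obtain ⟨W, hxW, ⟨i⟩⟩ := hP₀ x
    obtain ⟨bb⟩ := LocFree.exists_basis_stalk i (isCoh_of_rank hP₀).1 hxW
    haveI := Module.Free.of_basis bb
    infer_instance
  haveI : Mono φ₀ := mono_of_generic htf φ₀ hφinj
  let φ : CohB1.tensorMod P₀ B' ⟶ F := tmap φ₀ B' ≫ (W7Slope.untw η F).hom
  haveI : Mono (tmap φ₀ B') := W7Slope.mono_tmap hB' φ₀
  -- the multiplication
  have hC : Coh.IsCoh (cokernel φ₀) := Groth.Agent.QC.isCoh_cokernel (isCoh_of_rank hP₀).1 hG φ₀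
  haveI : (cokernel φ₀).IsQuasicoherent := hC.1
  have hscl := Groth.Agent.QC.isClosed_support hC.2
  have hξ : ξ ∉ CohB1.support (cokernel φ₀) := W7Slope.notMem_support_of_subsingleton (by
    have h := W7Slope.grk_add (S := ShortComplex.mk φ₀ (cokernel.π φ₀) (cokernel.condition φ₀))
      { exact := ShortComplex.exact_cokernel φ₀ } hG
    change W7Slope.grk G = W7Slope.grk P₀ + W7Slope.grk (cokernel φ₀) at h
    rw [W7Slope.grk_of_rank hP₀, hGn] at h
    haveI := RegDual.finite_stalk hC ξ
    exact Module.finrank_zero_iff.1 (show W7Slope.grk (cokernel φ₀) = 0 by omega))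
  obtain ⟨N, σ, hσ, hσS⟩ := exists_vanishing_section (k := k) hdim hA.1
    (deg_pos_of_isAmple hdim hA) hscl hξ
  let H := CohB1.tensorPow A N
  have hH : PicF.IsInvertible H := TMul.isInvertible_tensorPow hA.1 N
  obtain ⟨q, -, hq⟩ := exists_twist_eq_zero_all hH σ (fun j => (cokernel.π φ₀).app ⊤ (t j)) fun j => by
    refine Groth.Agent.WeakAssLib.ext_germ _ _ fun x hx => ?_
    haveI : Subsingleton ((cokernel φ₀).presheaf.stalk x) := not_not.1 fun h => hσS x h hx
    exact Subsingleton.elim _ _
  let L := CohB1.tensorPow H q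
  have hL : PicF.IsInvertible L := TMul.isInvertible_tensorPow hH q
  let ψ : Coh.structureModule X ⟶ L := homOf (TMul.pw (TMul.val σ ⊤) q)
  have hψv : ∀ U : X.Opens, TMul.val ψ U = SecTwist.pow σ q U := fun U => by
    rw [val_homOf, TMul.res_pw, TMul.pow_eq_pw]
    exact congrArg (TMul.pw · q) (TMul.res_val σ _)
  haveI : Mono ψ := by
    refine mono_of_ne_zero TMul.isInvertible_structureModule hL ψ fun h0 => ?_
    obtain ⟨U, eU, hxU, heU⟩ := TMul.exists_isGen hH ξ
    obtain ⟨c, hc⟩ := (heU U le_rfl).2 (TMul.val σ U)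
    have hc' : TMul.val σ U = c • eU := by rw [← hc, res_self]
    have hξσ : ξ ∈ CohB1.genLocus H σ := by
      have hσ' : homOf (TMul.val σ ⊤) = σ := TMul.hom_ext_val (by rw [val_homOf, res_self])
      rw [← hσ']
      refine CurveRR.generic_mem_genLocus hH fun hv => ?_
      have hz : σ = 0 := TMul.hom_ext_val (hv.trans (by rfl))
      have h1 : 𝟙 (Coh.structureModule X) = 0 := by rw [← cancel_mono σ, hz, comp_zero, comp_zero]
      have h2 := congrArg (fun φ => (φ.app ⊤) (1 : Γ(X, ⊤))) h1
      haveI : Nonempty X := ⟨ξ⟩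
      exact one_ne_zero (α := Γ(X, ⊤)) h2
    have hξb : ξ ∈ X.basicOpen c := by
      rw [← TMul.genLocus_inf σ heU hc']
      exact ⟨hxU, hξσ⟩
    have hgen : TMul.IsGen (TMul.pw eU q) := TMul.isGen_pw heU q
    have h1 : c ^ q • TMul.pw eU q = 0 := by
      rw [← TMul.pw_smul, ← hc', ← TMul.pow_eq_pw, ← hψv U, h0]
      rfl
    have h2 : c ^ q = 0 := (hgen U le_rfl).1 (by simpa [res_self] using h1)
    have : IsUnit (X.presheaf.germ U ξ hxU c) := (X.mem_basicOpen c ξ hxU).1 hξb
    have h3 := (this.pow q)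
    rw [← map_pow, h2, map_zero] at h3
    exact not_isUnit_zero h3
  have hzero : mulHom ψ G ≫ tmap (cokernel.π φ₀) L = 0 := by
    rw [← mulHom_natural, ← cancel_epi (DetDeg.fromFree t), comp_zero]
    refine Sigma.hom_ext _ _ fun i => TMul.hom_ext_val ?_
    rw [comp_zero, DetDeg.fromFree, Sigma.ι_desc_assoc]
    show (mulHom ψ (cokernel φ₀)).app ⊤ ((cokernel.π φ₀).app ⊤ (TMul.val (homOf (t i)) ⊤)) = _
    rw [mulHom_app, val_homOf, res_self, hψv]
    exact (hq i).trans (by rfl)
  have hse := CohFinite.shortExact_tmap hL (S := ShortComplex.mk φ₀ (cokernel.π φ₀) (cokernel.condition φ₀))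
    { exact := ShortComplex.exact_cokernel φ₀ }
  haveI := hse.mono_f
  let ψG : G ⟶ CohB1.tensorMod P₀ L := hse.exact.lift (mulHom ψ G) hzero
  have hψG : ψG ≫ tmap φ₀ L = mulHom ψ G := hse.exact.lift_f _ _
  have hcomp : φ₀ ≫ ψG = mulHom ψ P₀ := by
    rw [← cancel_mono (tmap φ₀ L), Category.assoc, hψG, mulHom_natural]
  haveI : Mono (φ₀ ≫ ψG) := hcomp ▸ mono_mulHom_free hL ψ n
  let ψ₁ : F ⟶ CohB1.tensorMod (CohB1.tensorMod P₀ L) B' := (W7Slope.untw η F).inv ≫ tmap ψG B'
  haveI hψ₁c : Mono (φ ≫ ψ₁) := by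
    have : φ ≫ ψ₁ = tmap (φ₀ ≫ ψG) B' := by
      rw [CohFinite.tmap_comp]
      show (tmap φ₀ B' ≫ (W7Slope.untw η F).hom) ≫ _ = _
      rw [Category.assoc, Iso.hom_inv_id_assoc]
    rw [this]
    exact W7Slope.mono_tmap hB' _
  have hP : FlatMod.IsFinLocFreeOfRank n (CohB1.tensorMod P₀ B') := W7Slope.rank_tensor_inv hP₀ hB'
  have hP' : FlatMod.IsFinLocFreeOfRank n (CohB1.tensorMod (CohB1.tensorMod P₀ L) B') :=
    W7Slope.rank_tensor_inv (W7Slope.rank_tensor_inv hP₀ hL) hB'
  -- generic bijectivity of `φ`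
  haveI : Mono φ := inferInstanceAs (Mono (tmap φ₀ B' ≫ (W7Slope.untw η F).hom))
  have hFn : W7Slope.grk F = n := by
    have h1 := W7Slope.grk_of_rank hP
    have h2 := W7Slope.grk_le_of_mono (k := k) φ hF
    have h3 : Function.Surjective (stalkHom φ₀ ξ) := by
      intro v
      haveI := RegDual.finite_stalk (isCoh_of_rank hP₀) ξ
      let f : P₀.presheaf.stalk ξ →ₗ[X.presheaf.stalk ξ] G.presheaf.stalk ξ := ((DerSch.stalkFunctor X ξ).map φ₀).hom
      exact (LinearMap.injective_iff_surjective_of_finrank_eq_finrank (f := f)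
        ((W7Slope.grk_of_rank hP₀).trans hGn.symm)).1 hφinj v
    haveI : Subsingleton ((cokernel φ₀).presheaf.stalk ξ) := subsingleton_coker φ₀ h3
    have h4 : W7Slope.grk F ≤ n := by
      have hC' : W7Slope.grk (CohB1.tensorMod (cokernel φ₀) B') = 0 := by
        have hsup := suppIn_tensor (suppIn_of_subset (G := cokernel φ₀) (Set.Subset.refl _)) B'
        haveI : Subsingleton ((CohB1.tensorMod (cokernel φ₀) B').presheaf.stalk ξ) := subsingleton_of_forall_eq 0 fun v => by
          obtain ⟨W, hξW, s, rfl⟩ := (CohB1.tensorMod (cokernel φ₀) B').presheaf.exists_germ_eq (x := ξ) v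
          let W' : X.Opens := W ⊓ ⟨(CohB1.support (cokernel φ₀))ᶜ, hscl.isOpen_compl⟩
          have h0 := hsup W' (res _ inf_le_left s) fun y hy => hy.2
          exact (mgerm_res _ inf_le_left (show ξ ∈ W' from ⟨hξW, hξ⟩) s).symm.trans (by rw [h0, map_zero])
        exact Module.finrank_zero_of_subsingleton
      have hse' := CohFinite.shortExact_tmap hB' (S := ShortComplex.mk φ₀ (cokernel.π φ₀) (cokernel.condition φ₀))
        { exact := ShortComplex.exact_cokernel φ₀ }
      have h := W7Slope.grk_add hse' (CohFinite.isCoh_tensor hG hB')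
      change W7Slope.grk (CohB1.tensorMod G B') = W7Slope.grk (CohB1.tensorMod P₀ B') +
        W7Slope.grk (CohB1.tensorMod (cokernel φ₀) B') at h
      rw [W7Slope.grk_iso (W7Slope.untw η F), hC', W7Slope.grk_of_rank hP] at h
      omega
    omega
  haveI : Coh.IsQCoh F := hF.1
  haveI : Mono ψ₁ := by
    refine mono_of_generic hFt ψ₁ ?_
    let f₁ : (CohB1.tensorMod P₀ B').presheaf.stalk ξ →ₗ[X.presheaf.stalk ξ] F.presheaf.stalk ξ :=
      ((DerSch.stalkFunctor X ξ).map φ).hom
    haveI := RegDual.finite_stalk hF ξ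
    haveI := RegDual.finite_stalk (isCoh_of_rank hP) ξ
    have hs : Function.Surjective f₁ := (LinearMap.injective_iff_surjective_of_finrank_eq_finrank (f := f₁)
      ((W7Slope.grk_of_rank hP).trans hFn.symm)).1 (injective_stalkHom φ ξ)
    intro v w hvw
    obtain ⟨v, rfl⟩ := hs v
    obtain ⟨w, rfl⟩ := hs w
    have key : ∀ z, stalkHom (φ ≫ ψ₁) ξ z = stalkHom ψ₁ ξ (f₁ z) := fun z => by
      obtain ⟨V, hxV, z, rfl⟩ := (CohB1.tensorMod P₀ B').presheaf.exists_germ_eq (x := ξ) z
      show _ = stalkHom ψ₁ ξ (stalkHom φ ξ _)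
      rw [stalkHom_germ, stalkHom_germ, stalkHom_germ]
      rfl
    exact congrArg f₁ (injective_stalkHom (φ ≫ ψ₁) ξ ((key v).trans (hvw.trans (key w).symm)))
  rw [hFn]
  exact ⟨_, _, φ, ψ₁, inferInstance, inferInstance, hP, hP'⟩

include k in
/-- Locally free modules inside and around a torsion-free module, equal to it at regular points. -/
theorem exists_sub_super (hdim : topologicalKrullDim X = 1) {F : X.Modules} (hF : Coh.IsCoh F)
    (hFt : TorSh.IsTorsionFree F) :
    (∃ (E : X.Modules) (i : E ⟶ F), FlatMod.IsFinLocFreeOfRank (W7Slope.grk F) E ∧ Mono i ∧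
      ∀ x : X, IsRegularLocalRing (X.presheaf.stalk x) → Subsingleton ((cokernel i).presheaf.stalk x)) ∧
    (∃ (E : X.Modules) (j : F ⟶ E), FlatMod.IsFinLocFreeOfRank (W7Slope.grk F) E ∧ Mono j ∧
      ∀ x : X, IsRegularLocalRing (X.presheaf.stalk x) → Subsingleton ((cokernel j).presheaf.stalk x)) := by
  haveI := isNoetherian_of_proper k X
  obtain ⟨P, P', φ, ψ, hφ, hψ, hP, hP'⟩ := exists_monos (k := k) hdim hF hFt
  letI : Field (X.presheaf.stalk (genericPoint X)) := inferInstanceAs (Field X.functionField)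
  have hfree : ∀ {M : X.Modules} {n : ℕ}, FlatMod.IsFinLocFreeOfRank n M → ∀ x,
      Module.Free (X.presheaf.stalk x) (M.presheaf.stalk x) := fun {M n} hM x => by
    obtain ⟨W, hxW, ⟨i⟩⟩ := hM x
    obtain ⟨b⟩ := LocFree.exists_basis_stalk i (isCoh_of_rank hM).1 hxW
    exact Module.Free.of_basis b
  have hreg : ∀ x : X, IsRegularLocalRing (X.presheaf.stalk x) →
      Module.Free (X.presheaf.stalk x) (F.presheaf.stalk x) := fun x hx => by
    haveI := hx
    haveI := W7Slope.isPrincipalIdealRing_of_regular (R := X.presheaf.stalk x)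
      ((RegDual.ringKrullDim_stalk_le_topologicalKrullDim x).trans hdim.le)
    haveI := RegDual.finite_stalk hF x
    haveI := hFt x
    exact Module.free_of_finite_type_torsion_free'
  have hgen : ∀ {A B : X.Modules} (f : A ⟶ B) [Mono f], Coh.IsCoh B → W7Slope.grk A = W7Slope.grk B →
      Subsingleton ((cokernel f).presheaf.stalk (genericPoint X)) := fun {A B} f _ hB hr => by
    haveI := RegDual.finite_stalk hB (genericPoint X)
    have h := W7Slope.grk_add (S := ShortComplex.mk f (cokernel.π f) (cokernel.condition f))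
      { exact := ShortComplex.exact_cokernel f } hB
    change W7Slope.grk B = W7Slope.grk A + W7Slope.grk (cokernel f) at h
    haveI : Module.Finite (X.presheaf.stalk (genericPoint X)) ((DerSch.stalkFunctor X (genericPoint X)).obj B) :=
      RegDual.finite_stalk hB _
    haveI : Module.Finite (X.presheaf.stalk (genericPoint X)) ((cokernel f).presheaf.stalk (genericPoint X)) :=
      Module.Finite.of_surjective ((DerSch.stalkFunctor X (genericPoint X)).map (cokernel.π f)).hom
        (surjective_stalkHom (cokernel.π f) _)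
    exact Module.finrank_zero_iff.1 (show W7Slope.grk (cokernel f) = 0 by omega)
  have htrans : ∀ {A B : X.Modules} (f : A ⟶ B) (x : X), Function.Bijective (stalkHom f x) →
      (Module.Free (X.presheaf.stalk x) (A.presheaf.stalk x) ↔ Module.Free (X.presheaf.stalk x) (B.presheaf.stalk x)) :=
    fun {A B} f x hb => by
      let l := LinearEquiv.ofBijective ((DerSch.stalkFunctor X x).map f).hom hb
      refine ⟨fun h => ?_, fun h => ?_⟩
      · haveI : Module.Free (X.presheaf.stalk x) ((DerSch.stalkFunctor X x).obj A) := h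
        exact Module.Free.of_equiv l
      · haveI : Module.Free (X.presheaf.stalk x) ((DerSch.stalkFunctor X x).obj B) := h
        exact Module.Free.of_equiv l.symm
  refine ⟨?_, ?_⟩
  · obtain ⟨E, i, a, hi, hE, -, hst⟩ := exists_modify (k := k) hdim (isCoh_of_rank hP) hF φ
      (hgen φ hF (W7Slope.grk_of_rank hP)) {x | IsRegularLocalRing (X.presheaf.stalk x)}
    have hEfree : FlatMod.IsFinLocFree E := RegDual.isFinLocFree_of_free_stalk hE fun x => by
      by_cases hx : IsRegularLocalRing (X.presheaf.stalk x)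
      · exact (htrans i x ((hst x).1 hx)).2 (hreg x hx)
      · exact (htrans a x ((hst x).2.1 hx)).1 (hfree hP x)
    have hr : W7Slope.grk E = W7Slope.grk F := by
      haveI := hgen φ hF (W7Slope.grk_of_rank hP)
      exact (LinearEquiv.ofBijective ((DerSch.stalkFunctor X (genericPoint X)).map i).hom
        ((hst _).2.2 inferInstance).1).finrank_eq
    refine ⟨E, i, hr ▸ W7Slope.rank_of_isFinLocFree hE.1 hEfree, hi, fun x hx => ?_⟩
    exact subsingleton_coker i ((hst x).1 hx).2
  · have hc := hgen ψ (isCoh_of_rank hP') (W7Slope.grk_of_rank hP').symm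
    obtain ⟨E, i, a, hi, hE, hai, hst⟩ := exists_modify (k := k) hdim hF (isCoh_of_rank hP') ψ hc
      {x | ¬ IsRegularLocalRing (X.presheaf.stalk x)}
    have hEfree : FlatMod.IsFinLocFree E := RegDual.isFinLocFree_of_free_stalk hE fun x => by
      by_cases hx : IsRegularLocalRing (X.presheaf.stalk x)
      · exact (htrans a x ((hst x).2.1 (not_not.2 hx))).1 (hreg x hx)
      · exact (htrans i x ((hst x).1 hx)).2 (hfree hP' x)
    have hr : W7Slope.grk E = W7Slope.grk F :=
      (LinearEquiv.ofBijective ((DerSch.stalkFunctor X (genericPoint X)).map a).hom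
        ((hst _).2.2 hc).2).finrank_eq.symm
    refine ⟨E, a, hr ▸ W7Slope.rank_of_isFinLocFree hE.1 hEfree, mono_of_mono_fac hai, fun x hx => ?_⟩
    exact subsingleton_coker a ((hst x).2.1 (not_not.2 hx)).2

end Groth.Agent.TFModify

end
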